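import Cfsg.Agent.TypeM.FactsMcL
import Cfsg.Agent.TypeM.FactsAut
import Cfsg.Agent.TypeM.LFactsMcL
import Cfsg.Agent.H904.McLCent

/-!
# Elements of order `7`, `14`, `11` of the McLaughlin group, an elementary abelian subgroup of order `16`
-/

set_option autoImplicit false
open Subgroup Cfsg
universe u

namespace Cfsg.Agent.H212.TI

variable {M : Type u} [Group M]

/-- the order of the centralizer of an involution -/
theorem card_cent_two' (h : Spor.IsoMcL M) {t : M} (ht : orderOf t = 2) :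
    Nat.card (centralizer ({t} : Set M)) = 40320 := by
  obtain ⟨hfin, -, -, ⟨L⟩⟩ := Cfsg.Agent.TypeM.FactsMcL.facts h
  obtain ⟨h1, h2⟩ := Cfsg.Agent.TypeM.Two.MT.sq_of_orderOf ht
  obtain ⟨g, hg⟩ := L.one t h1 h2
  have h3 := Cfsg.Agent.TypeM.FactsAut.card_centralizer L (by norm_num)
  have h4 : Nat.card (centralizer ({L.t} : Set M)) = 40320 := by rw [h3]; rfl
  rw [← h4]
  symm
  refine Nat.card_congr ((MulAut.conj g).toEquiv.subtypeEquiv fun x => ?_)
  change x ∈ centralizer ({L.t} : Set M) ↔ g * x * g⁻¹ ∈ centralizer ({t} : Set M)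
  rw [mem_centralizer_singleton_iff, mem_centralizer_singleton_iff, ← hg]
  constructor
  · intro h
    calc g * x * g⁻¹ * (g * L.t * g⁻¹) = g * (x * L.t) * g⁻¹ := by group
      _ = g * (L.t * x) * g⁻¹ := by rw [h]
      _ = _ := by group
  · intro h
    have h5 : g * (x * L.t) * g⁻¹ = g * (L.t * x) * g⁻¹ := by
      calc g * (x * L.t) * g⁻¹ = g * x * g⁻¹ * (g * L.t * g⁻¹) := by group
        _ = g * L.t * g⁻¹ * (g * x * g⁻¹) := h
        _ = _ := by group
    exact mul_left_cancel (mul_right_cancel h5)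

/-- conjugation and powers -/
theorem conj_pow' {m y : M} {k : ℕ} (h : m * y * m⁻¹ = y ^ k) (j : ℕ) : m ^ j * y * (m ^ j)⁻¹ = y ^ (k ^ j) := by
  induction j with
  | zero => simp
  | succ j ih =>
    calc m ^ (j + 1) * y * (m ^ (j + 1))⁻¹ = m * (m ^ j * y * (m ^ j)⁻¹) * m⁻¹ := by rw [pow_succ']; group
      _ = m * y ^ (k ^ j) * m⁻¹ := by rw [ih]
      _ = (m * y * m⁻¹) ^ (k ^ j) := by rw [conj_pow]
      _ = y ^ (k ^ (j + 1)) := by rw [h, ← pow_mul, pow_succ']

theorem centralizer_zpowers (y : M) : centralizer ((zpowers y : Subgroup M) : Set M) = centralizer ({y} : Set M) := by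
  apply le_antisymm
  · exact centralizer_le (Set.singleton_subset_iff.2 (mem_zpowers y))
  · rw [zpowers_eq_closure, centralizer_closure]

/-- elements of the normalizer -/
theorem pow_index_mem' (P : Subgroup M) {c i : ℕ} (hc : 0 < c) (hC : Nat.card (centralizer (P : Set M)) = c)
    (hN : Nat.card (normalizer (P : Set M)) = c * i) {g : M} (hg : g ∈ normalizer (P : Set M)) :
    g ^ i ∈ centralizer (P : Set M) := by
  have hle : centralizer (P : Set M) ≤ normalizer (P : Set M) := by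
    intro x hx
    rw [mem_normalizer_iff]
    intro y
    constructor
    · intro hy
      rw [(mem_centralizer_iff.1 hx y hy).symm, mul_inv_cancel_right]
      exact hy
    · intro hy
      have h1 := mem_centralizer_iff.1 hx _ hy
      have h2 : x * y * x⁻¹ = y := by
        have h3 : x * (x * y * x⁻¹) = x * y := by rw [← h1]; group
        exact mul_left_cancel h3
      rwa [h2] at hy
  let N := normalizer (P : Set M)
  let C := (centralizer (P : Set M)).subgroupOf N
  have hn : C.Normal := by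
    constructor
    rintro ⟨x, hxN⟩ hx ⟨n, hn⟩
    rw [mem_subgroupOf] at hx ⊢
    simp only [coe_mul, InvMemClass.coe_inv] at hx ⊢
    rw [mem_centralizer_iff] at hx ⊢
    intro y hy
    have h1 : n⁻¹ * y * n ∈ (P : Set M) := by
      have := (mem_normalizer_iff.1 (inv_mem hn) y).1 hy
      rwa [inv_inv] at this
    have h2 := hx _ h1
    calc y * (n * x * n⁻¹) = n * (n⁻¹ * y * n * x) * n⁻¹ := by group
      _ = n * (x * (n⁻¹ * y * n)) * n⁻¹ := by rw [h2]
      _ = n * x * n⁻¹ * y := by group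
  have hcard : C.index = i := by
    have h1 : Nat.card C * C.index = Nat.card N := C.card_mul_index
    have h2 : Nat.card C = c := by
      rw [← hC]
      exact Nat.card_congr (subgroupOfEquivOfLe hle).toEquiv
    rw [h2, hN] at h1
    exact Nat.eq_of_mul_eq_mul_left hc h1
  have h3 := C.pow_index_mem ⟨g, hg⟩
  rw [hcard, mem_subgroupOf] at h3
  exact h3

theorem mem_normalizer_zpowers_of {y g : M} {k : ℕ} [Finite M] (h : g * y * g⁻¹ = y ^ k) :
    g ∈ normalizer ((zpowers y : Subgroup M) : Set M) := by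
  have h1 : ∀ x ∈ zpowers y, g * x * g⁻¹ ∈ zpowers y := by
    rintro x ⟨j, rfl⟩
    have h2 : g * y ^ j * g⁻¹ = (y ^ k) ^ j := by rw [← h, conj_zpow]
    change g * y ^ j * g⁻¹ ∈ zpowers y
    rw [h2]
    exact zpow_mem (pow_mem (mem_zpowers y) _) _
  have hsub : (zpowers y).map (MulAut.conj g).toMonoidHom ≤ zpowers y := by
    rintro x ⟨z, hz, rfl⟩
    exact h1 z hz
  have heq : (zpowers y).map (MulAut.conj g).toMonoidHom = zpowers y :=
    Subgroup.eq_of_le_of_card_ge hsub (le_of_eq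
      (Nat.card_congr ((zpowers y).equivMapOfInjective (MulAut.conj g).toMonoidHom
        (MulAut.conj g).injective).toEquiv))
  rw [mem_normalizer_iff]
  intro z
  constructor
  · exact h1 z
  · intro hz
    rw [← heq] at hz
    obtain ⟨w, hw, hw2⟩ := hz
    have h5 : g * w * g⁻¹ = g * z * g⁻¹ := hw2
    have h6 : w = z := mul_left_cancel (mul_right_cancel h5)
    rwa [← h6]

theorem exists_pow_of_normalizer {y g : M} {p : ℕ} (hy : orderOf y = p) (hp : 0 < p)
    (h : g ∈ normalizer ((zpowers y : Subgroup M) : Set M)) : ∃ k < p, g * y * g⁻¹ = y ^ k := by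
  have h1 := (mem_normalizer_iff.1 h y).1 (mem_zpowers y)
  obtain ⟨k, hk⟩ := h1
  refine ⟨(k % p).toNat, ?_, ?_⟩
  · have h2 := Int.emod_lt_of_pos k (show (0 : ℤ) < p by exact_mod_cast hp)
    have h3 := Int.emod_nonneg k (show (p : ℤ) ≠ 0 by exact_mod_cast hp.ne')
    omega
  · have h3 := Int.emod_nonneg k (show (p : ℤ) ≠ 0 by exact_mod_cast hp.ne')
    have h4 : y ^ ((k % p).toNat : ℤ) = y ^ k := by
      rw [Int.toNat_of_nonneg h3, ← hy, zpow_mod_orderOf]
    have h5 : y ^ k = g * y * g⁻¹ := hk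
    rw [← h5, ← h4, zpow_natCast]

theorem seven_data (h : Spor.IsoMcL M) {t : M} (ht : orderOf t = 2) : ∃ y m : M, orderOf y = 7 ∧ t * y = y * t ∧
    m * y * m⁻¹ = y ^ 2 ∧ m * t = t * m ∧ Nat.card (centralizer ({y} : Set M)) = 14 ∧
    Nat.card (centralizer ({t * y} : Set M)) = 14 ∧ ¬ IsConj y y⁻¹ ∧ ¬ IsConj (t * y) (t * y)⁻¹ := by
  obtain ⟨hfin, -, hM, -⟩ := Cfsg.Agent.TypeM.FactsMcL.facts h
  have hct := card_cent_two' h ht
  have : Fact (Nat.Prime 7) := ⟨by norm_num⟩
  have : Fact (Nat.Prime 3) := ⟨by norm_num⟩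
  obtain ⟨⟨y, hyc⟩, hy⟩ := exists_prime_orderOf_dvd_card' 7 (show 7 ∣ Nat.card (centralizer ({t} : Set M)) by
    rw [hct]; norm_num)
  rw [orderOf_mk] at hy
  have hty : t * y = y * t := (mem_centralizer_singleton_iff.1 hyc).symm
  have hP : Nat.card (zpowers y) = 7 := by rw [Nat.card_zpowers, hy]
  obtain ⟨hC, hN⟩ := Cfsg.Agent.H904.McLCent.seven h _ hP
  have hCy : centralizer ((zpowers y : Subgroup M) : Set M) = centralizer ({y} : Set M) := centralizer_zpowers y
  have hcomm : Commute t y := hty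
  have hoty : orderOf (t * y) = 14 := by
    rw [hcomm.orderOf_mul_eq_mul_orderOf_of_coprime (by rw [ht, hy]; norm_num), ht, hy]
  have htyC : t * y ∈ centralizer ({y} : Set M) := by
    rw [mem_centralizer_singleton_iff, mul_assoc, ← mul_assoc y, ← hty, mul_assoc]
  have h14 : Nat.card (centralizer ({y} : Set M)) = 14 := by
    apply Nat.dvd_antisymm
    · rw [← hCy]; exact hC
    · have := Subgroup.orderOf_dvd_natCard _ htyC
      rwa [hoty] at this
  have hz : zpowers (t * y) = centralizer ({y} : Set M) :=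
    Subgroup.eq_of_le_of_card_ge (zpowers_le.2 htyC) (by rw [Nat.card_zpowers, hoty, h14])
  have h8 : (t * y) ^ 8 = y := by
    rw [hcomm.mul_pow]
    have h1 : t ^ 8 = 1 := by
      rw [show (8 : ℕ) = 2 * 4 by norm_num, pow_mul, ← ht, pow_orderOf_eq_one, one_pow]
    have h2 : y ^ 8 = y := by
      rw [show (8 : ℕ) = 7 + 1 by norm_num, pow_succ, ← hy, pow_orderOf_eq_one, one_mul]
    rw [h1, h2, one_mul]
  have hcty : centralizer ({t * y} : Set M) = centralizer ({y} : Set M) := by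
    apply le_antisymm
    · intro x hx
      rw [mem_centralizer_singleton_iff] at hx ⊢
      have : Commute x (t * y) := hx
      have h1 := this.pow_right 8
      rw [h8] at h1
      exact h1
    · rw [← hz]
      rw [zpowers_le, mem_centralizer_singleton_iff]
  -- an element of order three
  obtain ⟨⟨m₀, hm₀N⟩, hm₀⟩ := exists_prime_orderOf_dvd_card' 3
    (show 3 ∣ Nat.card (normalizer ((zpowers y : Subgroup M) : Set M)) by rw [hN]; norm_num)
  rw [orderOf_mk] at hm₀
  obtain ⟨k, hk7, hk⟩ := exists_pow_of_normalizer hy (by norm_num) hm₀N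
  have hk3 : y ^ (k ^ 3) = y ^ 1 := by
    rw [← conj_pow' hk 3, pow_one, show m₀ ^ 3 = 1 by rw [← hm₀, pow_orderOf_eq_one]]
    group
  rw [pow_eq_pow_iff_modEq, hy] at hk3
  have hm : ∃ m : M, m * y * m⁻¹ = y ^ 2 := by
    have hk1 : k ≠ 1 := by
      rintro rfl
      have h1 : m₀ ∈ centralizer ({y} : Set M) := by
        rw [mem_centralizer_singleton_iff]
        rw [pow_one] at hk
        exact mul_inv_eq_iff_eq_mul.1 hk
      have h2 := Subgroup.orderOf_dvd_natCard _ h1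
      rw [hm₀, h14] at h2
      norm_num at h2
    have hk24 : k = 2 ∨ k = 4 := by
      unfold Nat.ModEq at hk3
      interval_cases k <;> simp_all
    rcases hk24 with rfl | rfl
    · exact ⟨m₀, hk⟩
    · refine ⟨m₀ ^ 2, ?_⟩
      rw [conj_pow' hk 2, pow_eq_pow_iff_modEq, hy]
      decide
  obtain ⟨m, hm⟩ := hm
  have hinv : ¬ IsConj y y⁻¹ := by
    intro hc
    obtain ⟨g, hg⟩ := isConj_iff.1 hc
    have hg6 : g * y * g⁻¹ = y ^ 6 := by
      have h7 : y ^ 7 = 1 := by rw [← hy, pow_orderOf_eq_one]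
      rw [hg, inv_eq_iff_mul_eq_one, ← pow_succ', h7]
    have hgN := mem_normalizer_zpowers_of hg6
    have h3 := pow_index_mem' (zpowers y) (c := 14) (i := 3) (by norm_num) (by rw [hCy, h14]) (by rw [hN]) hgN
    rw [hCy, mem_centralizer_singleton_iff] at h3
    have h4 : y ^ (6 ^ 3) = y ^ 1 := by
      rw [← conj_pow' hg6 3, h3, pow_one, mul_inv_cancel_right]
    rw [pow_eq_pow_iff_modEq, hy] at h4
    revert h4
    decide
  refine ⟨y, m, hy, hty, hm, ?_, h14, by rw [hcty, h14], hinv, ?_⟩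
  · -- `m t m⁻¹` is an involution of `C(y)`
    have h1 : m * t * m⁻¹ ∈ centralizer ({y} : Set M) := by
      rw [← hCy, centralizer_zpowers, mem_centralizer_singleton_iff]
      have h2 : (m⁻¹) * y * (m⁻¹)⁻¹ ∈ zpowers y :=
        (mem_normalizer_iff.1 (inv_mem (mem_normalizer_zpowers_of hm)) y).1 (mem_zpowers y)
      rw [inv_inv] at h2
      have h3 : Commute t (m⁻¹ * y * m) := by
        obtain ⟨j, hj⟩ := h2
        rw [← hj]
        exact hcomm.zpow_right j
      calc m * t * m⁻¹ * y = m * (t * (m⁻¹ * y * m)) * m⁻¹ := by group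
        _ = m * ((m⁻¹ * y * m) * t) * m⁻¹ := by rw [h3.eq]
        _ = _ := by group
    rw [← hz] at h1
    obtain ⟨j, hj⟩ := h1
    have hj' : (t * y) ^ j = m * t * m⁻¹ := hj
    have hsq : (t * y) ^ (j * 2) = 1 := by
      have h2 : t * t = 1 := by rw [← pow_two, ← ht, pow_orderOf_eq_one]
      rw [zpow_mul, hj']
      calc (m * t * m⁻¹) ^ (2 : ℤ) = m * (t * t) * m⁻¹ := by rw [zpow_two]; group
        _ = 1 := by rw [h2]; group
    rw [← orderOf_dvd_iff_zpow_eq_one, hoty] at hsq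
    have h7 : (7 : ℤ) ∣ j := by
      have : (14 : ℤ) ∣ j * 2 := by exact_mod_cast hsq
      omega
    obtain ⟨l, rfl⟩ := h7
    have h7' : (t * y) ^ (7 : ℤ) = t := by
      have h1 : (t * y) ^ (7 : ℕ) = t := by
        have h8 : y ^ 7 = 1 := by rw [← hy, pow_orderOf_eq_one]
        have h9 : t ^ 2 = 1 := by rw [← ht, pow_orderOf_eq_one]
        rw [hcomm.mul_pow, h8, mul_one, show (7 : ℕ) = 2 * 3 + 1 by norm_num, pow_succ, pow_mul, h9, one_pow, one_mul]
      have h2 := zpow_natCast (t * y) 7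
      rw [h1] at h2
      exact h2
    rw [zpow_mul, h7'] at hj'
    have ht2 : t ^ (2 : ℤ) = 1 := by
      have : t ^ (2 : ℕ) = 1 := by rw [← ht, pow_orderOf_eq_one]
      exact_mod_cast this
    rcases Int.emod_two_eq_zero_or_one l with hl | hl
    · obtain ⟨r, rfl⟩ := Int.dvd_of_emod_eq_zero hl
      rw [zpow_mul, ht2, one_zpow] at hj'
      have : t = 1 := by
        have h5 : m * t = m := mul_inv_eq_one.1 hj'.symm
        exact mul_eq_left.1 h5
      rw [this, orderOf_one] at ht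
      exact absurd ht (by norm_num)
    · obtain ⟨r, rfl⟩ : ∃ r, l = 2 * r + 1 := ⟨l / 2, by omega⟩
      rw [zpow_add, zpow_mul, ht2, one_zpow, one_mul, zpow_one] at hj'
      exact (eq_mul_inv_iff_mul_eq.1 hj').symm
  · intro hc
    obtain ⟨g, hg⟩ := isConj_iff.1 hc
    apply hinv
    refine isConj_iff.2 ⟨g, ?_⟩
    have h1 : (g * (t * y) * g⁻¹) ^ 8 = ((t * y)⁻¹) ^ 8 := by rw [hg]
    rwa [conj_pow, inv_pow, h8] at h1

theorem eleven_data (h : Spor.IsoMcL M) : ∃ v : M, orderOf v = 11 ∧ IsConj v (v ^ 3) ∧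
    Nat.card (centralizer ({v} : Set M)) = 11 ∧ ¬ IsConj v v⁻¹ := by
  obtain ⟨hfin, -, hM, -⟩ := Cfsg.Agent.TypeM.FactsMcL.facts h
  have : Fact (Nat.Prime 11) := ⟨by norm_num⟩
  have : Fact (Nat.Prime 5) := ⟨by norm_num⟩
  obtain ⟨v, hv⟩ := exists_prime_orderOf_dvd_card' 11 (show 11 ∣ Nat.card M by rw [hM]; norm_num)
  have hP : Nat.card (zpowers v) = 11 := by rw [Nat.card_zpowers, hv]
  obtain ⟨hC, hN⟩ := Cfsg.Agent.H904.McLCent.eleven h _ hP
  have hCv := centralizer_zpowers v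
  refine ⟨v, hv, ?_, by rw [← hCv, hC], ?_⟩
  · obtain ⟨⟨m₀, hm₀N⟩, hm₀⟩ := exists_prime_orderOf_dvd_card' 5
      (show 5 ∣ Nat.card (normalizer ((zpowers v : Subgroup M) : Set M)) by rw [hN]; norm_num)
    rw [orderOf_mk] at hm₀
    obtain ⟨k, hk11, hk⟩ := exists_pow_of_normalizer hv (by norm_num) hm₀N
    have hk5 : v ^ (k ^ 5) = v ^ 1 := by
      rw [← conj_pow' hk 5, pow_one, show m₀ ^ 5 = 1 by rw [← hm₀, pow_orderOf_eq_one]]
      group
    rw [pow_eq_pow_iff_modEq, hv] at hk5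
    have hk1 : k ≠ 1 := by
      rintro rfl
      have h1 : m₀ ∈ centralizer ({v} : Set M) := by
        rw [mem_centralizer_singleton_iff]
        rw [pow_one] at hk
        exact mul_inv_eq_iff_eq_mul.1 hk
      have h2 := Subgroup.orderOf_dvd_natCard _ h1
      rw [hm₀, ← hCv, hC] at h2
      norm_num at h2
    have key : ∀ k < 11, k ^ 5 ≡ 1 [MOD 11] → k ≠ 1 → ∃ j < 5, k ^ j ≡ 3 [MOD 11] := by
      unfold Nat.ModEq
      decide
    obtain ⟨j, -, hj⟩ := key k hk11 hk5 hk1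
    refine isConj_iff.2 ⟨m₀ ^ j, ?_⟩
    rw [conj_pow' hk j, pow_eq_pow_iff_modEq, hv]
    exact hj
  · intro hc
    obtain ⟨g, hg⟩ := isConj_iff.1 hc
    have hg10 : g * v * g⁻¹ = v ^ 10 := by
      have h7 : v ^ 11 = 1 := by rw [← hv, pow_orderOf_eq_one]
      rw [hg, inv_eq_iff_mul_eq_one, ← pow_succ', h7]
    have hgN := mem_normalizer_zpowers_of hg10
    have h3 := pow_index_mem' (zpowers v) (c := 11) (i := 5) (by norm_num) hC (by rw [hN]) hgN
    rw [hCv, mem_centralizer_singleton_iff] at h3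
    have h4 : v ^ (10 ^ 5) = v ^ 1 := by
      rw [← conj_pow' hg10 5, h3, pow_one, mul_inv_cancel_right]
    rw [pow_eq_pow_iff_modEq, hv] at h4
    revert h4
    decide

theorem exists_V (h : Spor.IsoMcL M) : ∃ V : Subgroup M, Nat.card V = 16 ∧ ∀ g ∈ V, g ≠ 1 → orderOf g = 2 := by
  obtain ⟨hfin, -, hM, ⟨L⟩⟩ := Cfsg.Agent.TypeM.FactsMcL.facts h
  obtain ⟨ε, s, ε', s', F⟩ := Cfsg.Agent.TypeM.LFactsMcL.exists_lfacts L
  have mul := F.E.mul
  have inj := F.E.inj
  have h0 : ε 0 = 1 := by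
    have := mul 0 (by norm_num) 0 (by norm_num)
    rw [Nat.xor_self] at this
    exact mul_eq_left.1 this
  have hsq : ∀ i < 16, ε i * ε i = 1 := fun i hi => by rw [mul i hi i hi, Nat.xor_self, h0]
  have hlt : ∀ i < 16, ∀ j < 16, i ^^^ j < 16 := fun i hi j hj => Nat.xor_lt_two_pow (n := 4) hi hj
  let V : Subgroup M :=
    { carrier := {g | ∃ i < 16, ε i = g}
      one_mem' := ⟨0, by norm_num, h0⟩
      mul_mem' := by
        rintro _ _ ⟨i, hi, rfl⟩ ⟨j, hj, rfl⟩
        exact ⟨i ^^^ j, hlt i hi j hj, (mul i hi j hj).symm⟩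
      inv_mem' := by
        rintro _ ⟨i, hi, rfl⟩
        exact ⟨i, hi, (inv_eq_of_mul_eq_one_left (hsq i hi)).symm⟩ }
  have hV : ∀ g, g ∈ V ↔ ∃ i < 16, ε i = g := fun g => Iff.rfl
  have hbij : Function.Bijective (fun i : Fin 16 => (⟨ε i, (hV _).2 ⟨i, i.2, rfl⟩⟩ : V)) := by
    constructor
    · intro i j hij
      have h1 : ε i = ε j := congrArg Subtype.val hij
      have h2 : ε ((i : ℕ) ^^^ (j : ℕ)) = 1 := by
        rw [← mul i i.2 j j.2, h1, hsq j j.2]
      have h3 := inj _ (hlt i i.2 j j.2) h2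
      exact Fin.ext (Nat.xor_eq_zero_iff.1 h3)
    · rintro ⟨g, hg⟩
      obtain ⟨i, hi, rfl⟩ := (hV g).1 hg
      exact ⟨⟨i, hi⟩, rfl⟩
  refine ⟨V, ?_, ?_⟩
  · rw [← Nat.card_congr (Equiv.ofBijective _ hbij), Nat.card_eq_fintype_card, Fintype.card_fin]
  · intro g hg hg1
    obtain ⟨i, hi, rfl⟩ := (hV g).1 hg
    exact orderOf_eq_prime (by rw [pow_two, hsq i hi]) hg1

end Cfsg.Agent.H212.TI
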